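import Cfsg.Agent.H435.BR.OmE
import Cfsg.Agent.H178.BR.TrF

/-!
# HUB BR, `Ω(Q)` in characteristic two: the traces of `sgE` (helper435)

* `fr τ`, `Fr τ` : the coordinatewise field automorphism on `ι → K` and on `End (ι → K)`;
* `sgE_trF` : the traces of `sgE` lie in `F`; `sgE_trF'` for algebraically closed `K`;
* `two_le_finrank_WE`.
-/

set_option autoImplicit false
set_option linter.unusedSectionVars false

namespace Cfsg.Agent.H435.BR

open Module QuadraticMap Cfsg Cfsg.Agent.LieClassical.OrthCore Cfsg.Agent.LieClassical.OrthTrans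
open Cfsg.Agent.H883.BR Cfsg.Agent.H748.BR

section gen

variable {K : Type*} [Field K] {U : Type*} [AddCommGroup U] [Module K U] {G : Type*} [Group G]
  {ρ : G →* Module.End K U} {S1 S2 : Submodule K U}

/-- the trace on a subquotient with a semilinear structure -/
theorem trace_subq (h1 : Inv ρ ⊤ S1) (h2 : Inv ρ ⊤ S2) [FiniteDimensional K (SubQ S1 S2)] {F : Subfield K} [Finite F]
    (τ : K ≃+* K) (hτ : ∀ c, τ c = c ^ Nat.card F) (Φ : U →+ U) (hΦ : ∀ (c : K) (X : U), Φ (c • X) = τ c • Φ X)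
    (hS1 : ∀ X ∈ S1, Φ X ∈ S1) (hS2 : ∀ X, Φ X ∈ S2 ↔ X ∈ S2) (g : G) (hg : ∀ X ∈ S1, Φ (ρ g X) = ρ g (Φ X)) :
    LinearMap.trace K (SubQ S1 S2) (subq ρ S1 S2 h1 h2 g) ∈ F := by
  refine H178.BR.trace_mem_sub τ hτ S1 Φ hΦ hS1 (S2.comap S1.subtype).mkQ (Submodule.mkQ_surjective _) (fun X => ?_)
    (A := ρ g) (fun X hX => h1 g trivial X hX) hg (fun X => rfl)
  rw [Submodule.mkQ_apply, Submodule.mkQ_apply, subQ_mk_eq_zero, subQ_mk_eq_zero]
  exact hS2 X

/-- dimension -/
theorem finrank_subQ_ge [FiniteDimensional K U] : finrank K S1 ≤ finrank K (SubQ S1 S2) + finrank K S2 := by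
  have h1 : finrank K (SubQ S1 S2) + finrank K (S2.comap S1.subtype) = finrank K S1 :=
    Submodule.finrank_quotient_add_finrank (S2.comap S1.subtype)
  have h2 : finrank K (S2.comap S1.subtype) ≤ finrank K S2 := by
    refine LinearMap.finrank_le_finrank_of_injective (f := (S1.subtype.restrict (p := S2.comap S1.subtype) (q := S2)
      fun X hX => hX)) ?_
    intro X Y h
    apply Subtype.ext
    apply Subtype.ext
    exact congrArg (fun Z : S2 => (Z : U)) h
  omega

end gen

section fr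

variable {K : Type*} [Field K] {ι : Type*} (τ : K ≃+* K)

/-- the coordinatewise automorphism -/
def fr : (ι → K) ≃+ (ι → K) where
  toFun v i := τ (v i)
  invFun v i := τ.symm (v i)
  left_inv v := funext fun i => τ.symm_apply_apply (v i)
  right_inv v := funext fun i => τ.apply_symm_apply (v i)
  map_add' v w := funext fun i => map_add τ (v i) (w i)

theorem fr_apply (v : ι → K) (i : ι) : fr τ v i = τ (v i) := rfl

theorem fr_smul (c : K) (v : ι → K) : fr τ (c • v) = τ c • fr τ v := funext fun i => map_mul τ c (v i)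

theorem fr_symm_smul (c : K) (v : ι → K) : (fr τ).symm (c • v) = τ.symm c • (fr τ).symm v :=
  funext fun i => map_mul τ.symm c (v i)

/-- conjugation by the coordinatewise automorphism -/
def Fr : Module.End K (ι → K) →+ Module.End K (ι → K) where
  toFun X :=
    { toFun := fun v => fr τ (X ((fr τ).symm v))
      map_add' := fun v w => by rw [map_add, map_add, map_add]
      map_smul' := fun c v => by rw [fr_symm_smul, map_smul, fr_smul, RingEquiv.apply_symm_apply, RingHom.id_apply] }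
  map_zero' := LinearMap.ext fun v => map_zero (fr τ)
  map_add' X Y := LinearMap.ext fun v => map_add (fr τ) _ _

theorem Fr_apply (X : Module.End K (ι → K)) (v : ι → K) : Fr τ X v = fr τ (X ((fr τ).symm v)) := rfl

theorem Fr_apply_fr (X : Module.End K (ι → K)) (v : ι → K) : Fr τ X (fr τ v) = fr τ (X v) := by
  rw [Fr_apply, AddEquiv.symm_apply_apply]

theorem Fr_smul (c : K) (X : Module.End K (ι → K)) : Fr τ (c • X) = τ c • Fr τ X := by
  refine LinearMap.ext fun v => ?_
  rw [Fr_apply, LinearMap.smul_apply, LinearMap.smul_apply, fr_smul]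
  rfl

theorem Fr_mul (X Y : Module.End K (ι → K)) : Fr τ (X * Y) = Fr τ X * Fr τ Y := by
  refine LinearMap.ext fun v => ?_
  rw [Fr_apply, Module.End.mul_apply, Module.End.mul_apply, Fr_apply τ Y, Fr_apply_fr]

theorem Fr_one : Fr τ (1 : Module.End K (ι → K)) = 1 := by
  refine LinearMap.ext fun v => ?_
  rw [Fr_apply, Module.End.one_apply, Module.End.one_apply, AddEquiv.apply_symm_apply]

theorem Fr_injective : Function.Injective (Fr (ι := ι) τ) := by
  intro X Y h
  refine LinearMap.ext fun v => ?_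
  apply (fr τ).injective
  rw [← Fr_apply_fr, ← Fr_apply_fr, h]

theorem Fr_mem_scal {X : Module.End K (ι → K)} : Fr τ X ∈ scal K (ι → K) ↔ X ∈ scal K (ι → K) := by
  rw [mem_scal, mem_scal]
  constructor
  · rintro ⟨c, hc⟩
    refine ⟨τ.symm c, Fr_injective τ ?_⟩
    rw [hc, Fr_smul, Fr_one, RingEquiv.apply_symm_apply]
  · rintro ⟨c, rfl⟩
    exact ⟨τ c, by rw [Fr_smul, Fr_one]⟩

end fr

variable {F : Type} [Field F] {ι : Type} [Fintype ι] [DecidableEq ι] {Q : QuadraticForm F (ι → F)} {K : Type}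
  [Field K] [Algebra F K] {τ : K ≃+* K}

section

variable (hτ : ∀ a : F, τ (algebraMap F K a) = algebraMap F K a)

include hτ

theorem fr_jv (v : ι → F) : fr τ (jv K v) = jv K v := funext fun i => hτ (v i)

theorem Fr_rho (g : Om Q) : Fr τ (H748.BR.rho Q K g) = H748.BR.rho Q K g := by
  refine ext_jv (F := F) fun v => ?_
  rw [← fr_jv hτ v, Fr_apply_fr]
  have h1 : H748.BR.rho Q K g (jv K v) = jv K ((matF Q g).mulVec v) := H748.BR.rho_vK g v
  rw [fr_jv hτ, h1, fr_jv hτ]

theorem BK_fr (v w : ι → K) : H748.BR.BK Q K (fr τ v) (fr τ w) = τ (H748.BR.BK Q K v w) := by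
  rw [H748.BR.BK_apply, H748.BR.BK_apply, map_sum]
  refine Finset.sum_congr rfl fun i _ => ?_
  rw [map_sum]
  refine Finset.sum_congr rfl fun j _ => ?_
  rw [map_mul, map_mul, hτ]
  rfl

theorem Fr_wdg (u v : ι → K) : Fr τ (wdg (H748.BR.BK Q K) u v) = wdg (H748.BR.BK Q K) (fr τ u) (fr τ v) := by
  refine LinearMap.ext fun x => ?_
  rw [Fr_apply, wdg_apply, wdg_apply, map_sub, fr_smul, fr_smul, ← BK_fr hτ, ← BK_fr hτ, AddEquiv.apply_symm_apply]

theorem Fr_lam0 {X : Module.End K (ι → K)} (hX : X ∈ lam0 (H748.BR.BK Q K)) : Fr τ X ∈ lam0 (H748.BR.BK Q K) := by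
  refine Submodule.span_induction (p := fun X _ => Fr τ X ∈ lam0 (H748.BR.BK Q K)) ?_ ?_ ?_ ?_ hX
  · rintro _ ⟨u, v, huv, rfl⟩
    refine Submodule.subset_span ⟨fr τ u, fr τ v, ?_, (Fr_wdg hτ u v).symm⟩
    rw [BK_fr hτ, huv, map_zero]
  · rw [map_zero]
    exact zero_mem _
  · intro X Y _ _ h1 h2
    rw [map_add]
    exact add_mem h1 h2
  · intro c X _ h1
    rw [Fr_smul]
    exact Submodule.smul_mem _ _ h1

end

/-- **the traces lie in `F`** -/
theorem sgE_trF [Finite F] (hτ : ∀ c : K, τ c = c ^ Nat.card F) (g : Om Q) :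
    LinearMap.trace K (WE Q K) (sgE Q K g) ∈ (algebraMap F K).fieldRange := by
  have := Fintype.ofFinite F
  have hτ1 : ∀ a : F, τ (algebraMap F K a) = algebraMap F K a := by
    intro a
    rw [hτ, ← map_pow, Nat.card_eq_fintype_card, FiniteField.pow_card]
  have hτ2 : ∀ c : K, τ c = c ^ Nat.card (algebraMap F K).fieldRange := by
    intro c
    rw [card_range, hτ]
  refine trace_subq (ρ := ad (H748.BR.rho Q K)) H748.BR.lam0_inv scal_inv τ hτ2 (Fr τ) (Fr_smul τ)
    (fun X hX => Fr_lam0 hτ1 hX) (fun X => Fr_mem_scal τ) g (fun X _ => ?_)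
  rw [ad_apply, ad_apply, Fr_mul, Fr_mul, Fr_rho hτ1, Fr_rho hτ1]

/-- the same for algebraically closed `K` -/
theorem sgE_trF' [Finite F] [IsAlgClosed K] (g : Om Q) :
    LinearMap.trace K (WE Q K) (sgE Q K g) ∈ (algebraMap F K).fieldRange := by
  have := Fintype.ofFinite F
  obtain ⟨p, hp⟩ := CharP.exists F
  have hpp : Fact p.Prime := ⟨CharP.char_is_prime F p⟩
  have hK : CharP K p := charP_of_injective_algebraMap (algebraMap F K).injective p
  obtain ⟨n, -, hn⟩ := FiniteField.card F p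
  refine sgE_trF (τ := iterateFrobeniusEquiv K p n) (fun c => ?_) g
  rw [iterateFrobeniusEquiv_def, Nat.card_eq_fintype_card, hn]

theorem finrank_WE_ge [Finite F] (hG : Good Q) (h2 : (2 : F) = 0) (hd : 7 ≤ Fintype.card ι) :
    Fintype.card ι * (Fintype.card ι - 1) / 2 - 2 ≤ finrank K (WE Q K) := by
  have h4 : finrank K (lam0 (H748.BR.BK Q K)) ≤ finrank K (WE Q K) + finrank K (scal K (ι → K)) := finrank_subQ_ge
  have h5 := finrank_scal_le K (ι := ι)
  have h6 := finrank_lam0_ge K hG h2 hd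
  omega

theorem two_le_finrank_WE [Finite F] (hG : Good Q) (h2 : (2 : F) = 0) (hd : 7 ≤ Fintype.card ι) :
    2 ≤ finrank K (WE Q K) := by
  have h6 := finrank_WE_ge (K := K) hG h2 hd
  have h7 : 7 * 6 ≤ Fintype.card ι * (Fintype.card ι - 1) := Nat.mul_le_mul hd (by omega)
  have h8 : 7 * 6 / 2 ≤ Fintype.card ι * (Fintype.card ι - 1) / 2 := Nat.div_le_div_right h7
  omega

end Cfsg.Agent.H435.BR
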